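import Mathlib
import Cfsg.Agent.H94.M23R.BlockData

/-!
An element of order seven of the normaliser of the sixteen-group fixes only that block; the part of
the sixteen-group fixing another block is small.
-/

set_option autoImplicit false
set_option linter.style.haveILetI false
set_option linter.unusedSectionVars false

namespace H62
namespace M23R

open Subgroup MulAction H91.M23R H62.M23A7 H94.M23R

variable {G : Type*} [Group G] [Finite G]

theorem stab_base (H : Hep G) : stabilizer G (base H) = NE H := MulAction.stabilizer_quotient _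

theorem smul_base (H : Hep G) (n : ↥(NE H)) : (n : G) • base H = base H := by
  have : (n : G) ∈ stabilizer G (base H) := by rw [stab_base]; exact n.2
  exact this

theorem mem_stab_mk (H : Hep G) (g x : G) :
    x • (g : Blk H) = (g : Blk H) ↔ g⁻¹ * x * g ∈ NE H := by
  rw [MulAction.Quotient.smul_coe, QuotientGroup.eq, smul_eq_mul]
  rw [show (x * g)⁻¹ * g = (g⁻¹ * x * g)⁻¹ by group, inv_mem_iff]

theorem commute_E (H : Hep G) {u v : G} (hu : u ∈ H.E) (hv : v ∈ H.E) : u * v = v * u := by
  have i1 : ∀ x ∈ H.E, x⁻¹ = x := fun x hx => inv_eq_of_mul_eq_one_right (H.sq x hx)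
  calc u * v = (u * v)⁻¹ := (i1 _ (mul_mem hu hv)).symm
    _ = v * u := by rw [mul_inv_rev, i1 u hu, i1 v hv]

theorem exists_commuting (H : Hep G) {w : G} (hw : orderOf w = 7) (hwN : w ∈ NE H) :
    ∃ e ∈ H.E, e ≠ 1 ∧ Commute w e := by
  haveI : Fact (Nat.Prime 7) := ⟨by norm_num⟩
  let f : zpowers w →* MulAut H.E :=
    { toFun := fun x =>
        { toFun := fun v => ⟨(x : G) * v * (x : G)⁻¹,
            (mem_normalizer_iff.1 (zpowers_le.2 hwN x.2) v).1 v.2⟩
          invFun := fun v => ⟨(x : G)⁻¹ * v * (x : G),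
            (mem_normalizer_iff''.1 (zpowers_le.2 hwN x.2) v).1 v.2⟩
          left_inv := fun v => Subtype.ext (by simp only; group)
          right_inv := fun v => Subtype.ext (by simp only; group)
          map_mul' := fun u v => Subtype.ext (by simp only [Subgroup.coe_mul]; group) }
      map_one' := by
        refine MulEquiv.ext fun v => Subtype.ext ?_
        show ((1 : zpowers w) : G) * (v : G) * ((1 : zpowers w) : G)⁻¹ = (v : G)
        simp
      map_mul' := fun a b => by
        refine MulEquiv.ext fun v => Subtype.ext ?_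
        show ((a * b : zpowers w) : G) * (v : G) * ((a * b : zpowers w) : G)⁻¹ =
          (a : G) * ((b : G) * v * (b : G)⁻¹) * (a : G)⁻¹
        rw [Subgroup.coe_mul]
        group }
  letI act : MulAction (zpowers w) H.E := MulAction.compHom H.E f
  have hp : IsPGroup 7 (zpowers w) := IsPGroup.of_card (n := 1) (by rw [Nat.card_zpowers, hw, pow_one])
  have hmod : 16 ≡ Nat.card (MulAction.fixedPoints (zpowers w) H.E) [MOD 7] := by
    have h := hp.card_modEq_card_fixedPoints (α := H.E)
    rwa [H.card_E] at h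
  by_contra hne
  simp only [not_exists, not_and] at hne
  have hone : MulAction.fixedPoints (zpowers w) H.E = {1} := by
    ext v
    constructor
    · intro hv
      by_contra h1
      refine hne v v.2 (fun e => h1 (Subtype.ext e)) ?_
      exact mul_inv_eq_iff_eq_mul.1 (congrArg Subtype.val (hv ⟨w, mem_zpowers w⟩))
    · rintro rfl x
      show f x 1 = 1
      exact map_one _
  rw [hone, Nat.card_eq_fintype_card] at hmod
  simp [Nat.ModEq] at hmod

theorem eq_base_of_fixed (L : Loc G) (H : Hep G) {w : G} (hw : orderOf w = 7) (hwN : w ∈ NE H)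
    {P : Blk H} (hP : w • P = P) : P = base H := by
  haveI : Fact (Nat.Prime 7) := ⟨by norm_num⟩
  obtain ⟨g, rfl⟩ := QuotientGroup.mk_surjective P
  obtain ⟨e, he, he1, hcom⟩ := exists_commuting H hw hwN
  have hee : e ^ 2 = 1 := by rw [sq]; exact H.sq e he
  have hoe : orderOf e = 2 := orderOf_eq_prime hee he1
  -- the centraliser of w has just one involution
  have huniq : ∀ y : G, Commute w y → y ^ 2 = 1 → y ≠ 1 → y = e := by
    intro y hy hy2 hy1
    have ho : orderOf (w * e) = 14 := by
      rw [hcom.orderOf_mul_eq_mul_orderOf_of_coprime (by rw [hw, hoe]; norm_num), hw, hoe]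
    have hgen : zpowers (w * e) = centralizer ({w} : Set G) := by
      refine eq_of_le_of_card_ge ?_ (by rw [Nat.card_zpowers, ho, L.cent7 w hw])
      rw [zpowers_le, mem_centralizer_singleton_iff]
      exact ((Commute.refl w).mul_left hcom.symm).eq
    have hmem : y ∈ zpowers (w * e) := by
      rw [hgen, mem_centralizer_singleton_iff]
      exact hy.symm.eq
    obtain ⟨k, hk⟩ := Subgroup.mem_zpowers_iff.1 hmem
    have hd : (14 : ℤ) ∣ k * 2 := by
      have : (w * e) ^ (k * 2) = 1 := by rw [zpow_mul, hk]; exact_mod_cast hy2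
      rw [← orderOf_dvd_iff_zpow_eq_one, ho] at this
      exact_mod_cast this
    obtain ⟨j, rfl⟩ : ∃ j, k = 7 * j := ⟨k / 7, by omega⟩
    have hwj : w ^ (7 * j) = 1 := orderOf_dvd_iff_zpow_eq_one.1 (by rw [hw]; exact Dvd.intro j rfl)
    rw [hcom.mul_zpow, hwj, one_mul] at hk
    rcases Int.even_or_odd (7 * j) with h | h
    · obtain ⟨m, hm⟩ := h
      refine absurd (hk.symm.trans ?_) hy1
      rw [hm, ← two_mul, zpow_mul, zpow_two, H.sq e he, one_zpow]
    · obtain ⟨m, hm⟩ := h
      rw [← hk, hm, zpow_add, zpow_mul, zpow_two, H.sq e he, one_zpow, one_mul, zpow_one]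
  set N := NE H
  have hx : g⁻¹ * w * g ∈ N := (mem_stab_mk H g w).1 hP
  set x : G := g⁻¹ * w * g with hxdef
  have hox : orderOf x = 7 := by
    have h := (MulAut.conj g⁻¹).orderOf_eq w
    rw [MulAut.conj_apply, inv_inv] at h
    rw [hxdef, h, hw]
  have hfac : (Nat.card N).factorization 7 = 1 := by
    rw [H.card_N, show (40320 : ℕ) = 7 ^ 1 * 5760 by norm_num,
      Nat.factorization_mul (by norm_num) (by norm_num), Finsupp.add_apply,
      Nat.Prime.factorization_pow (by norm_num), Finsupp.single_eq_same,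
      Nat.factorization_eq_zero_of_not_dvd (by norm_num : ¬ 7 ∣ 5760)]
  let P7 : Sylow 7 N := Sylow.ofCard (zpowers (⟨w, hwN⟩ : N))
    (by rw [Nat.card_zpowers, Subgroup.orderOf_mk, hw, hfac, pow_one])
  let Q7 : Sylow 7 N := Sylow.ofCard (zpowers (⟨x, hx⟩ : N))
    (by rw [Nat.card_zpowers, Subgroup.orderOf_mk, hox, hfac, pow_one])
  obtain ⟨n, hn⟩ := MulAction.exists_smul_eq N Q7 P7
  have hmem : (n : G) * x * (n : G)⁻¹ ∈ zpowers w := by
    have h1 : n • (⟨x, hx⟩ : N) * 1 = n * ⟨x, hx⟩ := by simp [smul_eq_mul]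
    have h2 : n * ⟨x, hx⟩ * n⁻¹ ∈ ((n • Q7 : Sylow 7 N) : Subgroup N) := by
      rw [Sylow.coe_subgroup_smul, Subgroup.mem_pointwise_smul_iff_inv_smul_mem]
      simp only [MulAut.smul_def, MulAut.inv_apply, MulAut.conj_symm_apply]
      simp only [← mul_assoc, inv_mul_cancel, one_mul, inv_mul_cancel_right]
      exact mem_zpowers _
    rw [hn] at h2
    obtain ⟨k, hk⟩ := Subgroup.mem_zpowers_iff.1 h2
    refine Subgroup.mem_zpowers_iff.2 ⟨k, ?_⟩
    have h3 := congrArg Subtype.val hk
    simpa using h3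
  have hnorm : (n : G) * g⁻¹ ∈ normalizer (zpowers w : Set G) := by
    have hle : (zpowers w).map (MulAut.conj ((n : G) * g⁻¹)).toMonoidHom ≤ zpowers w := by
      rw [MonoidHom.map_zpowers, zpowers_le]
      have : (MulAut.conj ((n : G) * g⁻¹)).toMonoidHom w = (n : G) * x * (n : G)⁻¹ := by
        rw [hxdef]
        simp only [MulEquiv.coe_toMonoidHom, MulAut.conj_apply]
        group
      rw [this]; exact hmem
    have he' := eq_of_le_of_card_ge hle (le_of_eq (Nat.card_congr ((zpowers w).equivMapOfInjective _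
      (MulAut.conj ((n : G) * g⁻¹)).injective).toEquiv))
    refine mem_normalizer_iff.2 fun v => ⟨fun hv => ?_, fun hv => ?_⟩
    · rw [← he']; exact ⟨v, hv, rfl⟩
    · rw [← he'] at hv
      obtain ⟨u, hu, hu'⟩ := hv
      have := (MulAut.conj ((n : G) * g⁻¹)).injective (show MulAut.conj ((n : G) * g⁻¹) u =
        MulAut.conj ((n : G) * g⁻¹) v from hu')
      exact this ▸ hu
  have hne : (n : G) * g⁻¹ ∈ N := by
    set m := (n : G) * g⁻¹ with hm
    have hm1 : m * e * m⁻¹ = e := by
      refine huniq _ ?_ (by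
        rw [sq, show m * e * m⁻¹ * (m * e * m⁻¹) = m * (e * e) * m⁻¹ by group, H.sq e he, mul_one,
          mul_inv_cancel]) (fun h => he1 (by simpa using h))
      have hwm : m⁻¹ * w * m ∈ zpowers w := (mem_normalizer_iff''.1 hnorm w).1 (mem_zpowers w)
      obtain ⟨k, hk⟩ := Subgroup.mem_zpowers_iff.1 hwm
      have hw' : w = m * w ^ k * m⁻¹ := by rw [hk]; group
      have hc : m * w ^ k * m⁻¹ * (m * e * m⁻¹) = m * e * m⁻¹ * (m * w ^ k * m⁻¹) := by
        rw [show m * w ^ k * m⁻¹ * (m * e * m⁻¹) = m * (w ^ k * e) * m⁻¹ by group,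
          (hcom.zpow_left k).eq]
        group
      rw [← hw'] at hc
      exact hc
    refine H.cent e he he1 (mem_centralizer_singleton_iff.2 ?_)
    exact mul_inv_eq_iff_eq_mul.1 hm1
  have hg : g ∈ N := by
    have := mul_mem (inv_mem hne) n.2
    simpa [mul_assoc] using this
  exact QuotientGroup.eq.2 (by simpa using hg)

/-- The part of the sixteen-group fixing another block has at most four elements. -/
theorem card_cap_le (H : Hep G) {P : Blk H} (hP : P ≠ base H)
    {pi : ↥(NE H) →* A7} (hk : pi.ker = H.E.subgroupOf (NE H)) :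
    Nat.card ↥(H.E ⊓ stabilizer G P) ∈ ({1, 2, 4} : Finset ℕ) := by
  obtain ⟨g, rfl⟩ := QuotientGroup.mk_surjective P
  set K := H.E ⊓ stabilizer G (g : Blk H) with hK
  have hin : ∀ v : K, g⁻¹ * (v : G) * g ∈ NE H := fun v =>
    (mem_stab_mk H g v).1 (mem_inf.1 v.2).2
  let f : K →* A7 := pi.comp
    { toFun := fun v => (⟨_, hin v⟩ : NE H)
      map_one' := Subtype.ext (by simp)
      map_mul' := fun a b => Subtype.ext (by simp only [Subgroup.coe_mul]; group) }
  have hinj : Function.Injective f := by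
    rw [← MonoidHom.ker_eq_bot_iff, eq_bot_iff]
    intro v hv
    have h1 : (⟨_, hin v⟩ : NE H) ∈ pi.ker := hv
    rw [hk, mem_subgroupOf] at h1
    rw [mem_bot]
    by_contra hv1
    have := H.ti g⁻¹ v (mem_inf.1 v.2).1 (fun e => hv1 (Subtype.ext e)) (by rw [inv_inv]; exact h1)
    exact hP (QuotientGroup.eq.2 (by simpa using this))
  have hd : Nat.card K ∣ 2 ^ 4 := by
    have := card_dvd_of_le (inf_le_left : K ≤ H.E)
    rwa [H.card_E] at this
  obtain ⟨k, hk4, hk'⟩ := (Nat.dvd_prime_pow Nat.prime_two).1 hd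
  have hk3 : k ≤ 2 := by
    by_contra hgt
    haveI : Fact (Nat.Prime 2) := ⟨Nat.prime_two⟩
    have hc : Nat.card f.range = 2 ^ k := by
      rw [Nat.card_congr (MonoidHom.ofInjective hinj).toEquiv.symm, hk']
    obtain ⟨S, hS⟩ := Sylow.exists_subgroup_card_pow_prime (G := f.range) 2 (n := 3)
      (by rw [hc]; exact pow_dvd_pow 2 (by omega))
    refine not_elementary_eight (S.map f.range.subtype) ?_ ?_
    · rw [← Nat.card_congr (S.equivMapOfInjective _ f.range.subtype_injective).toEquiv, hS]; rfl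
    · rintro _ ⟨⟨y, v, rfl⟩, -, rfl⟩
      show f v * f v = 1
      rw [← map_mul, show v * v = 1 from Subtype.ext (H.sq v (mem_inf.1 v.2).1), map_one]
  rw [hk']
  interval_cases k <;> simp

end M23R
end H62
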