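import Mathlib
import Cfsg.Agent.H62.M23R.Fixed

/-!
The other blocks fall into two orbits of the stabiliser of one block, and determine one or three
of its seven points.
-/

set_option autoImplicit false
set_option linter.style.haveILetI false
set_option linter.unusedSectionVars false

namespace H62
namespace M23R

open Subgroup MulAction H91.M23R H62.M23A7 H94.M23R

variable {G : Type*} [Group G] [Finite G]

/-- The stabiliser of a block inside the stabiliser of the chosen one. -/
abbrev stabN (H : Hep G) (P : Blk H) : Subgroup ↥(NE H) := (pair H (base H) P).subgroupOf (NE H)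

theorem mem_stabN (H : Hep G) {P : Blk H} {n : ↥(NE H)} : n ∈ stabN H P ↔ (n : G) • P = P :=
  ⟨fun h => (mem_inf.1 (mem_subgroupOf.1 h)).2,
    fun h => mem_subgroupOf.2 (mem_inf.2 ⟨smul_base H n, h⟩)⟩

theorem card_stabN (H : Hep G) (P : Blk H) :
    Nat.card (stabN H P) = Nat.card ↥(pair H (base H) P) :=
  Nat.card_congr (subgroupOfEquivOfLe (fun x hx => by
    rw [← stab_base]; exact (mem_inf.1 hx).1)).toEquiv

/-- The orbit of a block. -/
def orbN (H : Hep G) (P : Blk H) : Set (Blk H) := {Q | ∃ n : ↥(NE H), (n : G) • P = Q}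

theorem self_mem_orbN (H : Hep G) (P : Blk H) : P ∈ orbN H P := ⟨1, by simp⟩

theorem card_orbN_mul (H : Hep G) (P : Blk H) :
    (orbN H P).ncard * Nat.card (stabN H P) = 40320 := by
  have h := (MulAction.stabilizer (NE H) P).card_mul_index
  have h40 : Nat.card ↥(NE H) = 40320 := H.card_N
  rw [MulAction.index_stabilizer, h40] at h
  rw [mul_comm, ← h]
  congr 1
  exact Nat.card_congr (Equiv.subtypeEquivRight fun n => mem_stabN H)

theorem orbN_disjoint (H : Hep G) {P Q : Blk H} (h : Q ∉ orbN H P) :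
    Disjoint (orbN H P) (orbN H Q) := by
  rw [Set.disjoint_left]
  rintro R ⟨a, rfl⟩ ⟨b, hb⟩
  refine h ⟨b⁻¹ * a, ?_⟩
  show ((b : G)⁻¹ * (a : G)) • P = Q
  rw [mul_smul, ← hb, inv_smul_smul]

theorem orbN_ne_base (H : Hep G) {P Q : Blk H} (hP : P ≠ base H) (hQ : Q ∈ orbN H P) :
    Q ≠ base H := by
  obtain ⟨n, rfl⟩ := hQ
  intro h
  apply hP
  rw [← inv_smul_smul (n : G) P, h, ← Subgroup.coe_inv]
  exact smul_base H _

theorem card_others (L : Loc G) (H : Hep G) : ({base H}ᶜ : Set (Blk H)).ncard = 252 := by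
  rw [Set.ncard_compl, Set.ncard_singleton]
  have h := (NE H).card_mul_index
  have h40 : Nat.card ↥(NE H) = 40320 := H.card_N
  rw [L.card, h40] at h
  have : Nat.card (Blk H) = (NE H).index := rfl
  omega

/-- The shape of the stabiliser of another block. -/
theorem block_cases (L : Loc G) (H : Hep G) {pi : ↥(NE H) →* A7}
    (hk : pi.ker = H.E.subgroupOf (NE H)) {P : Blk H}
    (hP : P ≠ base H) :
    ∃ T : Finset (Fin 7), (stabN H P).map pi = setSt T ∧
      ((T.card = 1 ∧ (orbN H P).ncard = 112 ∧ Nat.card (stabN H P) = 360 ∧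
          H.E ⊓ stabilizer G P = ⊥) ∨
        (T.card = 3 ∧ (orbN H P).ncard = 140 ∧ Nat.card (stabN H P) = 288 ∧
          Nat.card ↥(H.E ⊓ stabilizer G P) = 4)) := by
  haveI : Fact (Nat.Prime 5) := ⟨by norm_num⟩
  haveI : Fact (Nat.Prime 7) := ⟨by norm_num⟩
  set e := Nat.card ↥(H.E ⊓ stabilizer G P) with he
  set s := (orbN H P).ncard with hsdef
  set I := (stabN H P).map pi with hI
  have he4 : e = 1 ∨ e = 2 ∨ e = 4 := by
    have := card_cap_le H hP hk
    rwa [Finset.mem_insert, Finset.mem_insert, Finset.mem_singleton] at this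
  have hM : Nat.card (stabN H P) = e * Nat.card I := by
    have h := (pi.comp (stabN H P).subtype).ker.card_mul_index
    rw [Subgroup.index_ker] at h
    rw [← h, hI]
    congr 1
    · refine Nat.card_congr
        { toFun := fun v => ⟨((v.1 : ↥(NE H)) : G), ?_⟩
          invFun := fun v => ⟨⟨⟨v.1, le_normalizer (mem_inf.1 v.2).1⟩,
            (mem_stabN H).2 (mem_inf.1 v.2).2⟩, ?_⟩
          left_inv := fun v => rfl
          right_inv := fun v => rfl }
      · have hv : (v.1 : ↥(NE H)) ∈ pi.ker := v.2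
        rw [hk] at hv
        exact mem_inf.2 ⟨hv, (mem_stabN H).1 v.1.2⟩
      · show (⟨v.1, le_normalizer (mem_inf.1 v.2).1⟩ : ↥(NE H)) ∈ pi.ker
        rw [hk]
        exact (mem_inf.1 v.2).1
    · rw [MonoidHom.range_comp, Subgroup.range_subtype]
  have horb : s * Nat.card (stabN H P) = 40320 := card_orbN_mul H P
  have h7 : ¬ 7 ∣ Nat.card (stabN H P) := by
    intro h
    obtain ⟨w, hw⟩ := exists_prime_orderOf_dvd_card' 7 h
    rw [← Subgroup.orderOf_coe, ← Subgroup.orderOf_coe] at hw
    exact hP (eq_base_of_fixed L H hw (w : ↥(NE H)).2 ((mem_stabN H).1 w.2))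
  have hs252 : s ≤ 252 := by
    rw [← card_others L H]
    exact Set.ncard_le_ncard (fun Q hQ => orbN_ne_base H hP hQ)
  have hI7 : ¬ 7 ∣ Nat.card I := fun h => h7 (hM ▸ Dvd.dvd.mul_left h e)
  have hidx := I.card_mul_index
  rw [card_A7] at hidx
  have hse : s * e = 16 * I.index := by
    apply Nat.eq_of_mul_eq_mul_right (Nat.card_pos (α := I))
    rw [hM] at horb
    calc s * e * Nat.card I = 40320 := by rw [← horb]; ring
      _ = 16 * (Nat.card I * I.index) := by rw [hidx]
      _ = 16 * I.index * Nat.card I := by ring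
  have hs7 : 7 ∣ s :=
    ((by norm_num : Nat.Prime 7).dvd_mul.1 (horb ▸ (by norm_num : 7 ∣ 40320))).resolve_right h7
  by_cases h5 : 5 ∣ s
  · have h35 : 35 ∣ s := by
      have := Nat.Coprime.mul_dvd_of_dvd_of_dvd (by norm_num : Nat.Coprime 5 7) h5 hs7
      simpa using this
    obtain ⟨t, ht⟩ := h35
    obtain ⟨hs140, he4'⟩ : s = 140 ∧ e = 4 := by
      have h4 : 4 ∣ s := by
        rcases he4 with h | h | h <;> rw [h] at hse <;> omega
      have hspos : 0 < s := Nat.pos_of_ne_zero fun h => by rw [h, zero_mul] at horb; omega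
      have hs' : s = 140 := by omega
      refine ⟨hs', ?_⟩
      rcases he4 with h | h | h <;> rw [h] at hse <;> omega
    have hI72 : Nat.card I = 72 := by
      rw [hs140, hM, he4'] at horb
      omega
    obtain ⟨T, hT, -⟩ := eq_setSt_of_card hI72
    exact ⟨T, hT.2, Or.inr ⟨hT.1, hs140, by rw [hM, he4', hI72], he4'⟩⟩
  · have h5M : 5 ∣ Nat.card (stabN H P) :=
      ((by norm_num : Nat.Prime 5).dvd_mul.1 (horb ▸ (by norm_num : 5 ∣ 40320))).resolve_left h5
    obtain ⟨z, hz⟩ := exists_prime_orderOf_dvd_card' 5 h5M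
    rw [← Subgroup.orderOf_coe, ← Subgroup.orderOf_coe] at hz
    set z' : G := ((z : ↥(NE H)) : G) with hz'
    set K := H.E ⊓ stabilizer G P with hK
    have hzP : z' • P = P := (mem_stabN H).1 z.2
    have hconj : ∀ v ∈ K, z' * v * z'⁻¹ ∈ K := fun v hv => mem_inf.2
      ⟨(mem_normalizer_iff.1 (z : ↥(NE H)).2 v).1 (mem_inf.1 hv).1,
        mul_mem (mul_mem hzP (mem_inf.1 hv).2) (inv_mem hzP)⟩
    let σ : Equiv.Perm K := Equiv.ofBijective (fun v => ⟨_, hconj v v.2⟩)
      ((Nat.bijective_iff_injective_and_card _).2 ⟨fun a b h => Subtype.ext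
        (mul_left_cancel (mul_right_cancel (congrArg Subtype.val h))), rfl⟩)
    have hσ : σ = 1 := by
      have hit : ∀ (k : ℕ) (v : K), (((σ ^ k) v : K) : G) = z' ^ k * v * (z' ^ k)⁻¹ := by
        intro k
        induction k with
        | zero => intro v; simp
        | succ k ih =>
          intro v
          rw [pow_succ', Equiv.Perm.mul_apply]
          show z' * ((σ ^ k) v : K) * z'⁻¹ = _
          rw [ih, pow_succ']
          group
      have h5' : orderOf σ ∣ 5 := orderOf_dvd_of_pow_eq_one (Equiv.ext fun v => Subtype.ext (by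
        rw [hit, orderOf_dvd_iff_pow_eq_one.1 (dvd_of_eq hz)]
        simp))
      have hfact : orderOf σ ∣ e.factorial := by
        have := orderOf_dvd_natCard σ
        rwa [Nat.card_perm, ← he] at this
      rw [← orderOf_eq_one_iff]
      rcases (by norm_num : Nat.Prime 5).eq_one_or_self_of_dvd _ h5' with h | h
      · exact h
      · rw [h] at hfact
        rcases he4 with e' | e' | e' <;> rw [e'] at hfact <;> norm_num [Nat.factorial] at hfact
    have he1 : e = 1 := by
      by_contra hne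
      haveI : Nontrivial K := Finite.one_lt_card_iff_nontrivial.1 (by
        rcases he4 with h | h | h <;> rw [← he, h] <;> omega)
      obtain ⟨v, hv⟩ := exists_ne (1 : K)
      have hcomm : Commute (v : G) z' := by
        have := congrArg (fun w : K => (w : G)) (Equiv.ext_iff.1 hσ v)
        exact (mul_inv_eq_iff_eq_mul.1 this).symm
      have hd : orderOf (v : G) ∣ 15 := by
        rw [← L.cent5 z' hz]
        exact orderOf_dvd_natCard _ (mem_centralizer_singleton_iff.2 hcomm)
      rw [orderOf_eq_prime (p := 2) (by rw [sq]; exact H.sq _ (mem_inf.1 v.2).1)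
        (fun h => hv (Subtype.ext h))] at hd
      norm_num at hd
    rw [he1, one_mul] at hM
    rw [he1, mul_one] at hse
    obtain ⟨i, hi, -⟩ := eq_ptSt_of_five (K := I) (hM ▸ h5M) hI7 (by omega)
    have hI360 : Nat.card I = 360 := by rw [hi, card_ptSt]
    refine ⟨{i}, by rw [← ptSt_eq_setSt]; exact hi, Or.inl ⟨Finset.card_singleton i, ?_,
      by rw [hM, hI360], card_eq_one.1 he1⟩⟩
    rw [hI360] at hidx
    omega

theorem setSt_unique {T T' : Finset (Fin 7)} (h : T.card = 1 ∨ T.card = 3)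
    (h' : T'.card = 1 ∨ T'.card = 3) (e : setSt T = setSt T') : T = T' := by
  have hc : ∀ S : Finset (Fin 7), S.card = 1 → Nat.card (setSt S) = 360 := fun S hS => by
    obtain ⟨i, rfl⟩ := Finset.card_eq_one.1 hS
    rw [← ptSt_eq_setSt, card_ptSt]
  rcases h with h | h <;> rcases h' with h' | h'
  · obtain ⟨i, rfl⟩ := Finset.card_eq_one.1 h
    obtain ⟨j, rfl⟩ := Finset.card_eq_one.1 h'
    rw [← ptSt_eq_setSt, ← ptSt_eq_setSt] at e
    rw [ptSt_inj e]
  · exact absurd (card_setSt h') (by rw [← e, hc T h]; norm_num)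
  · exact absurd (card_setSt h) (by rw [e, hc T' h']; norm_num)
  · exact setSt_inj h h' e

theorem map_stabN_smul (H : Hep G) {pi : ↥(NE H) →* A7}
    {P : Blk H} {T : Finset (Fin 7)} (h : (stabN H P).map pi = setSt T) (n : ↥(NE H)) :
    (stabN H ((n : G) • P)).map pi = setSt (T.image fun x => (pi n : Equiv.Perm (Fin 7)) x) := by
  have hcoe : ∀ m : ↥(NE H), ((n⁻¹ * m * n : ↥(NE H)) : G) = (n : G)⁻¹ * m * n := fun m => by simp
  have key : ∀ m : ↥(NE H), m ∈ stabN H ((n : G) • P) ↔ n⁻¹ * m * n ∈ stabN H P := by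
    intro m
    rw [mem_stabN, mem_stabN, hcoe, mul_smul, mul_smul, inv_smul_eq_iff]
  have himg : ∀ (a : A7) (x : Fin 7), (a : Equiv.Perm (Fin 7)) ((pi n : Equiv.Perm (Fin 7)) x) ∈
      T.image (fun y => (pi n : Equiv.Perm (Fin 7)) y) ↔
      (((pi n)⁻¹ * a * pi n : A7) : Equiv.Perm (Fin 7)) x ∈ T := by
    intro a x
    constructor
    · intro hx
      obtain ⟨y, hy, hy'⟩ := Finset.mem_image.1 hx
      simpa [← hy'] using hy
    · intro hx
      exact Finset.mem_image.2 ⟨_, hx, by simp⟩
  have hinj : ∀ x, (pi n : Equiv.Perm (Fin 7)) x ∈ T.image (fun y => (pi n : Equiv.Perm (Fin 7)) y) ↔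
      x ∈ T := fun x => by
    simp
  have hset : ∀ a : A7, a ∈ setSt (T.image fun y => (pi n : Equiv.Perm (Fin 7)) y) ↔
      (pi n)⁻¹ * a * pi n ∈ setSt T := by
    intro a
    rw [mem_setSt, mem_setSt]
    constructor
    · intro ha x
      rw [← himg, ha, hinj]
    · intro ha x
      obtain ⟨y, rfl⟩ := (pi n : Equiv.Perm (Fin 7)).surjective x
      rw [himg, ha, hinj]
  ext a
  rw [hset, ← h]
  constructor
  · rintro ⟨m, hm, rfl⟩
    exact ⟨n⁻¹ * m * n, (key m).1 hm, by simp⟩
  · rintro ⟨m, hm, hm'⟩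
    refine ⟨n * m * n⁻¹, (key _).2 (by simpa [mul_assoc] using hm), ?_⟩
    rw [map_mul, map_mul, map_inv, hm']
    group

/-- What is wanted of the points of a block. -/
def Spec (H : Hep G) (pi : ↥(NE H) →* A7) (P : Blk H) (T : Finset (Fin 7)) : Prop :=
  (P = base H → T = Finset.univ) ∧
    (P ≠ base H → (T.card = 1 ∨ T.card = 3) ∧ (stabN H P).map pi = setSt T)

theorem exists_blockData (L : Loc G) (H : Hep G) : Nonempty (BlockData H) := by
  classical
  obtain ⟨pi, hs, hk⟩ := exists_hom H
  have hspec : ∀ P, ∃ T, Spec H pi P T := by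
    intro P
    by_cases hP : P = base H
    · exact ⟨Finset.univ, fun _ => rfl, fun h => absurd hP h⟩
    · obtain ⟨T, hT, hc⟩ := block_cases L H hk hP
      refine ⟨T, fun h => absurd h hP, fun _ => ⟨?_, hT⟩⟩
      rcases hc with hc | hc
      · exact Or.inl hc.1
      · exact Or.inr hc.1
  choose pts hpts using hspec
  have hfacts : ∀ P, P ≠ base H →
      ((pts P).card = 1 ∧ (orbN H P).ncard = 112 ∧ Nat.card (stabN H P) = 360 ∧
          H.E ⊓ stabilizer G P = ⊥) ∨
        ((pts P).card = 3 ∧ (orbN H P).ncard = 140 ∧ Nat.card (stabN H P) = 288 ∧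
          Nat.card ↥(H.E ⊓ stabilizer G P) = 4) := by
    intro P hP
    obtain ⟨T, hT, hc⟩ := block_cases L H hk hP
    have hTc : T.card = 1 ∨ T.card = 3 := by
      rcases hc with hc | hc
      · exact Or.inl hc.1
      · exact Or.inr hc.1
    rwa [setSt_unique ((hpts P).2 hP).1 hTc (((hpts P).2 hP).2.symm.trans hT)]
  have hbase : pts (base H) = Finset.univ := (hpts (base H)).1 rfl
  have hne : ∀ {P : Blk H}, ((pts P).card = 1 ∨ (pts P).card = 3) → P ≠ base H := by
    rintro P hc rfl
    rw [hbase, Finset.card_univ, Fintype.card_fin] at hc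
    omega
  have hsize : ∀ {P : Blk H}, P ≠ base H → (orbN H P).ncard = 112 ∨ (orbN H P).ncard = 140 := by
    intro P hP
    rcases hfacts P hP with h | h
    · exact Or.inl h.2.1
    · exact Or.inr h.2.1
  have hsum : ∀ {P Q : Blk H}, P ≠ base H → Q ≠ base H → Q ∉ orbN H P →
      (orbN H P).ncard + (orbN H Q).ncard = 252 := by
    intro P Q hP hQ hPQ
    have hdis := orbN_disjoint H hPQ
    have hsub : orbN H P ∪ orbN H Q ⊆ ({base H}ᶜ : Set (Blk H)) := by
      rintro R (hR | hR)
      · exact orbN_ne_base H hP hR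
      · exact orbN_ne_base H hQ hR
    have hle := Set.ncard_le_ncard hsub
    rw [Set.ncard_union_eq hdis, card_others L H] at hle
    rcases hsize hP with h1 | h1 <;> rcases hsize hQ with h2 | h2 <;> rw [h1, h2] at hle ⊢ <;>
      try omega
    exfalso
    obtain ⟨R, hR, hR'⟩ : ∃ R ∈ ({base H}ᶜ : Set (Blk H)), R ∉ orbN H P ∪ orbN H Q := by
      refine Set.exists_mem_notMem_of_ncard_lt_ncard ?_
      rw [Set.ncard_union_eq hdis, card_others L H, h1, h2]
      norm_num
    simp only [Set.mem_union, not_or] at hR'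
    have d := Set.disjoint_union_left.2 ⟨orbN_disjoint H hR'.1, orbN_disjoint H hR'.2⟩
    have hsub3 : orbN H P ∪ orbN H Q ∪ orbN H R ⊆ ({base H}ᶜ : Set (Blk H)) := by
      rintro S (hS | hS)
      · exact hsub hS
      · exact orbN_ne_base H hR hS
    have hle3 := Set.ncard_le_ncard hsub3
    rw [Set.ncard_union_eq d, Set.ncard_union_eq hdis, card_others L H, h1, h2] at hle3
    rcases hsize hR with h3 | h3 <;> omega
  have hother : ∀ {P : Blk H}, P ≠ base H → ∃ Q, Q ≠ base H ∧ Q ∉ orbN H P := by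
    intro P hP
    obtain ⟨Q, hQ, hQ'⟩ := Set.exists_mem_notMem_of_ncard_lt_ncard
      (show (orbN H P).ncard < ({base H}ᶜ : Set (Blk H)).ncard by
        rw [card_others L H]; rcases hsize hP with h | h <;> omega)
    exact ⟨Q, hQ, hQ'⟩
  obtain ⟨P₀, hP₀⟩ : ∃ P, P ≠ base H := by
    obtain ⟨P, hP⟩ := Set.nonempty_of_ncard_ne_zero
      (show ({base H}ᶜ : Set (Blk H)).ncard ≠ 0 by rw [card_others L H]; norm_num)
    exact ⟨P, hP⟩
  obtain ⟨Q₀, hQ₀, hQ₀'⟩ := hother hP₀
  have h00 := hsum hP₀ hQ₀ hQ₀'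
  refine ⟨
    { pi := pi
      surj := hs
      ker := hk
      pts := pts
      pts_base := hbase
      pts_smul := ?_
      card_pts := fun P hP => ((hpts P).2 hP).1
      pair_one := ?_
      pair_three := ?_
      cap_one := ?_
      cap_three := ?_
      image := fun P hP => ((hpts P).2 hP).2
      trans := ?_
      exists_one := ?_
      exists_three := ?_ }⟩
  · intro n P
    by_cases hP : P = base H
    · subst hP
      rw [smul_base, hbase]
      exact (Finset.image_univ_of_surjective (Equiv.surjective _)).symm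
    · have hnP : (n : G) • P ≠ base H := orbN_ne_base H hP ⟨n, rfl⟩
      have hc : ((pts P).image fun x => (pi n : Equiv.Perm (Fin 7)) x).card = (pts P).card :=
        Finset.card_image_of_injective _ (Equiv.injective _)
      exact setSt_unique ((hpts _).2 hnP).1 (by rw [hc]; exact ((hpts P).2 hP).1)
        (((hpts _).2 hnP).2.symm.trans (map_stabN_smul H ((hpts P).2 hP).2 n))
  · intro P hc
    rcases hfacts P (hne (Or.inl hc)) with h | h
    · rw [← card_stabN]; exact h.2.2.1
    · omega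
  · intro P hc
    rcases hfacts P (hne (Or.inr hc)) with h | h
    · omega
    · rw [← card_stabN]; exact h.2.2.1
  · intro P hc
    rcases hfacts P (hne (Or.inl hc)) with h | h
    · exact h.2.2.2
    · omega
  · intro P hc
    rcases hfacts P (hne (Or.inr hc)) with h | h
    · omega
    · exact h.2.2.2
  · intro P Q hP hQ hc
    by_contra hno
    have h := hsum hP hQ (fun ⟨n, hn⟩ => hno ⟨n, hn⟩)
    rcases hfacts P hP with h1 | h1 <;> rcases hfacts Q hQ with h2 | h2 <;> omega
  · rcases hfacts P₀ hP₀ with h1 | h1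
    · exact ⟨P₀, h1.1⟩
    · rcases hfacts Q₀ hQ₀ with h2 | h2
      · exact ⟨Q₀, h2.1⟩
      · omega
  · rcases hfacts P₀ hP₀ with h1 | h1
    · rcases hfacts Q₀ hQ₀ with h2 | h2
      · omega
      · exact ⟨Q₀, h2.1⟩
    · exact ⟨P₀, h1.1⟩

end M23R
end H62
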